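import Mathlib

set_option autoImplicit false
universe u v

open DirectSum AddMonoidAlgebra

namespace Groth.Agent.GrRing54

variable {ι : Type v} [AddCommGroup ι] [DecidableEq ι] {R : Type u} [CommRing R]
  (𝒜 : ι → AddSubgroup R) [GradedRing 𝒜] (L : ι →+ ℤ)

/-- the homomorphism to the Laurent polynomials attached to a coarsening of the grading -/
noncomputable def gmap : R →+* AddMonoidAlgebra R ℤ :=
  (DirectSum.toSemiring
    (fun i => (AddMonoidAlgebra.singleAddHom (L i)).comp (𝒜 i).subtype)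
    (by
      change AddMonoidAlgebra.single (L 0) (1 : R) = 1
      rw [map_zero, AddMonoidAlgebra.one_def])
    (by
      intro i j ai aj
      change AddMonoidAlgebra.single (L (i + j)) ((ai : R) * (aj : R)) =
        AddMonoidAlgebra.single (L i) (ai : R) * AddMonoidAlgebra.single (L j) (aj : R)
      rw [AddMonoidAlgebra.single_mul_single, map_add])).comp
    (DirectSum.decomposeRingEquiv 𝒜).toRingHom

theorem gmap_of_mem {i : ι} {x : R} (hx : x ∈ 𝒜 i) :
    gmap 𝒜 L x = AddMonoidAlgebra.single (L i) x := by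
  simp only [gmap, RingHom.comp_apply]
  rw [show (DirectSum.decomposeRingEquiv 𝒜).toRingHom x = DirectSum.decompose 𝒜 x from rfl,
    DirectSum.decompose_of_mem 𝒜 hx, DirectSum.toSemiring_of]
  rfl

/-- component of a coarsened grading -/
noncomputable def comp (k : ℤ) : R →+ R :=
  (Finsupp.applyAddHom k).comp
    ((AddMonoidAlgebra.coeffAddEquiv.toAddMonoidHom).comp (gmap 𝒜 L).toAddMonoidHom)

theorem comp_def (k : ℤ) (x : R) : comp 𝒜 L k x = (gmap 𝒜 L x).coeff k := rfl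

theorem comp_of_mem {i : ι} {x : R} (hx : x ∈ 𝒜 i) (k : ℤ) :
    comp 𝒜 L k x = if L i = k then x else 0 := by
  rw [comp_def, gmap_of_mem 𝒜 L hx, AddMonoidAlgebra.coeff_single, Finsupp.single_apply]

theorem gmap_comp (k : ℤ) (x : R) :
    gmap 𝒜 L (comp 𝒜 L k x) = AddMonoidAlgebra.single k (comp 𝒜 L k x) := by
  classical
  rw [← DirectSum.sum_support_decompose 𝒜 x, map_sum, map_sum]
  refine (Finset.sum_congr rfl fun i _ => ?_).trans (map_sum (singleAddHom k) _ _).symm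
  rw [comp_of_mem 𝒜 L (SetLike.coe_mem _)]
  split_ifs with h
  · rw [gmap_of_mem 𝒜 L (SetLike.coe_mem _), h]; rfl
  · simp

theorem comp_comp_self (k l : ℤ) (x : R) :
    comp 𝒜 L l (comp 𝒜 L k x) = if k = l then comp 𝒜 L k x else 0 := by
  rw [comp_def, gmap_comp, AddMonoidAlgebra.coeff_single, Finsupp.single_apply]

theorem comp_comm (L' : ι →+ ℤ) (k l : ℤ) (x : R) :
    comp 𝒜 L' l (comp 𝒜 L k x) = comp 𝒜 L k (comp 𝒜 L' l x) := by
  classical
  rw [← DirectSum.sum_support_decompose 𝒜 x]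
  simp only [map_sum]
  refine Finset.sum_congr rfl fun i _ => ?_
  have hi := SetLike.coe_mem (DirectSum.decompose 𝒜 x i)
  rw [comp_of_mem 𝒜 L hi, comp_of_mem 𝒜 L' hi]
  split_ifs with h h' <;> simp [comp_of_mem 𝒜 L' hi, comp_of_mem 𝒜 L hi, *]

theorem comp_mul_left {e : ℤ} {a : R} (ha : gmap 𝒜 L a = AddMonoidAlgebra.single e a)
    (k : ℤ) (x : R) : comp 𝒜 L k (a * x) = a * comp 𝒜 L (k - e) x := by
  simp only [comp_def, map_mul, ha]
  rw [AddMonoidAlgebra.coeff_single_mul_apply]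
  congr 2
  ring

theorem sum_comp (x : R) :
    ∑ k ∈ (gmap 𝒜 L x).coeff.support, comp 𝒜 L k x = x := by
  classical
  let ε : AddMonoidAlgebra R ℤ →+ R :=
    (Finsupp.liftAddHom fun _ => AddMonoidHom.id R).comp AddMonoidAlgebra.coeffAddEquiv.toAddMonoidHom
  have h : ε.comp (gmap 𝒜 L).toAddMonoidHom = AddMonoidHom.id R := by
    ext y
    conv_rhs => rw [← DirectSum.sum_support_decompose 𝒜 y]
    conv_lhs => rw [← DirectSum.sum_support_decompose 𝒜 y]
    rw [map_sum, map_sum]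
    refine Finset.sum_congr rfl fun i _ => ?_
    change ε (gmap 𝒜 L _) = _
    rw [gmap_of_mem 𝒜 L (SetLike.coe_mem _)]
    change Finsupp.liftAddHom (fun _ => AddMonoidHom.id R) (AddMonoidAlgebra.single _ _).coeff = _
    rw [AddMonoidAlgebra.coeff_single, Finsupp.liftAddHom_apply_single]
  exact DFunLike.congr_fun h x

theorem exists_range (x : R) : ∃ lo hi : ℤ, ∀ k, comp 𝒜 L k x ≠ 0 → lo ≤ k ∧ k ≤ hi := by
  obtain ⟨lo, hlo⟩ := (gmap 𝒜 L x).coeff.support.bddBelow
  obtain ⟨hi, hhi⟩ := (gmap 𝒜 L x).coeff.support.bddAbove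
  exact ⟨lo, hi, fun k hk => ⟨hlo (Finsupp.mem_support_iff.2 hk), hhi (Finsupp.mem_support_iff.2 hk)⟩⟩

/-- the core of an ideal for the coarsened grading -/
noncomputable def core (p : Ideal R) : Ideal R :=
  RingHom.ker ((AddMonoidAlgebra.mapRingHom ℤ (Ideal.Quotient.mk p)).comp (gmap 𝒜 L))

theorem mem_core {p : Ideal R} {x : R} : x ∈ core 𝒜 L p ↔ ∀ k, comp 𝒜 L k x ∈ p := by
  simp only [core, RingHom.mem_ker, RingHom.comp_apply, AddMonoidAlgebra.ext_iff]
  simp [Finsupp.ext_iff, comp_def, Ideal.Quotient.eq_zero_iff_mem]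

theorem core_le (p : Ideal R) : core 𝒜 L p ≤ p := fun x hx => by
  rw [← sum_comp 𝒜 L x]; exact sum_mem fun k _ => (mem_core 𝒜 L).1 hx k

theorem core_mono {p q : Ideal R} (h : p ≤ q) : core 𝒜 L p ≤ core 𝒜 L q := fun _ hx =>
  (mem_core 𝒜 L).2 fun k => h ((mem_core 𝒜 L).1 hx k)

instance core_isPrime (p : Ideal R) [p.IsPrime] : (core 𝒜 L p).IsPrime := RingHom.ker_isPrime _

theorem comp_mem_core {p : Ideal R} {x : R} (hx : x ∈ core 𝒜 L p) (k : ℤ) :
    comp 𝒜 L k x ∈ core 𝒜 L p := by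
  rw [mem_core]
  intro l
  rw [comp_comp_self]
  split_ifs
  · exact (mem_core 𝒜 L).1 hx k
  · exact zero_mem _

end Groth.Agent.GrRing54
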