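import Mathlib

set_option autoImplicit false
universe u v

open DirectSum

namespace Groth.Agent.GrRing54

/-- a finitely generated free abelian group carries a compatible linear order -/
theorem exists_linearOrder (ι : Type v) [AddCommGroup ι] [Module.Free ℤ ι] [Module.Finite ℤ ι] :
    ∃ o : LinearOrder ι, @IsOrderedCancelAddMonoid ι _ o.toPartialOrder.toPreorder := by
  let b := Module.finBasis ℤ ι
  let e : ι → Lex (Fin (Module.finrank ℤ ι) → ℤ) := fun x => toLex (b.equivFun x)
  have he : Function.Injective e := toLex.injective.comp b.equivFun.injective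
  refine ⟨LinearOrder.lift' e he, ?_⟩
  letI := LinearOrder.lift' e he
  exact Function.Injective.isOrderedCancelAddMonoid e
    (fun x y => by simp [e]) (fun {x y} => Iff.rfl)

variable {ι : Type v} [AddCommGroup ι] [DecidableEq ι] [Module.Free ℤ ι] [Module.Finite ℤ ι]
  {R : Type u} [CommRing R] {σ : Type*} [SetLike σ R] [AddSubgroupClass σ R] {𝒜 : ι → σ}
  [GradedRing 𝒜]

theorem isPrime_of_homogeneous {I : Ideal R} (hI : I.IsHomogeneous 𝒜) (hne : I ≠ ⊤)
    (h : ∀ {x y : R}, SetLike.IsHomogeneousElem 𝒜 x → SetLike.IsHomogeneousElem 𝒜 y →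
      x * y ∈ I → x ∈ I ∨ y ∈ I) : I.IsPrime := by
  obtain ⟨o, ho⟩ := exists_linearOrder ι
  obtain rfl : ‹DecidableEq ι› = o.toDecidableEq := Subsingleton.elim _ _
  exact hI.isPrime_of_homogeneous_mem_or_mem hne h

theorem isPrime_homogeneousCore (p : Ideal R) [p.IsPrime] :
    (p.homogeneousCore 𝒜).toIdeal.IsPrime := by
  refine isPrime_of_homogeneous (HomogeneousIdeal.isHomogeneous _) ?_ ?_
  · exact fun h => ‹p.IsPrime›.ne_top (eq_top_iff.2 (h ▸ Ideal.toIdeal_homogeneousCore_le 𝒜 p))
  · intro x y hx hy hxy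
    refine (‹p.IsPrime›.mem_or_mem (Ideal.toIdeal_homogeneousCore_le 𝒜 p hxy)).imp ?_ ?_ <;>
      intro h <;> refine Ideal.mem_homogeneousCore_of_homogeneous_of_mem ?_ h <;> assumption

end Groth.Agent.GrRing54
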