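import Mathlib
import Groth.Agent.GrRing54.Coarse
import Groth.Agent.GrRing54.Free

set_option autoImplicit false
universe u v

open DirectSum AddMonoidAlgebra

namespace Groth.Agent.GrRing54

variable {ι : Type v} [AddCommGroup ι] [DecidableEq ι] {R : Type u} [CommRing R]
  (𝒜 : ι → AddSubgroup R) [GradedRing 𝒜] (L : ι →+ ℤ)

/-- `g` lives in degrees `[lo, hi]` modulo `C` -/
def Rng (C : Ideal R) (g : R) (lo hi : ℤ) : Prop :=
  ∀ k, comp 𝒜 L k g ∉ C → lo ≤ k ∧ k ≤ hi

/-- a maximal-core prime has nothing strictly between it and its core -/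
theorem eq_of_core_eq {p q : Ideal R} [p.IsPrime] [q.IsPrime] (hqp : q ≤ p)
    (hcore : core 𝒜 L p ≤ core 𝒜 L q) (hne : core 𝒜 L q ≠ q) : q = p := by
  set C := core 𝒜 L p with hC
  have hCq : C ≤ q := hcore.trans (core_le 𝒜 L q)
  have hqC : ∀ x ∈ core 𝒜 L q, x ∈ C := fun x hx => core_mono 𝒜 L hqp hx
  have hCP : ∀ x ∈ C, ∀ k, comp 𝒜 L k x ∈ C := fun x hx k => comp_mem_core 𝒜 L hx k
  have hmem : ∀ g, (∀ k, comp 𝒜 L k g ∈ C) → g ∈ C := fun g hg => by
    rw [← sum_comp 𝒜 L g]; exact sum_mem fun k _ => hg k
  have hCprime : C.IsPrime := core_isPrime 𝒜 L p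
  obtain ⟨x0, hx0, hx0C⟩ : ∃ x, x ∈ q ∧ x ∉ C := by
    by_contra! h
    exact hne (le_antisymm (core_le 𝒜 L q) fun x hx => hcore (h x hx))
  have hex : ∃ m : ℕ, ∃ f ∈ p, f ∉ C ∧ ∃ a : ℤ, Rng 𝒜 L C f a (a + m) := by
    obtain ⟨lo, hi, h⟩ := exists_range 𝒜 L x0
    refine ⟨(hi - lo).toNat, x0, hqp hx0, hx0C, lo, fun k hk => ?_⟩
    have := h k fun h0 => hk (by rw [h0]; exact zero_mem _)
    omega
  classical
  let m := Nat.find hex
  obtain ⟨f, hf, hfC, a, hfr⟩ := Nat.find_spec hex
  have hmin : ∀ g ∈ p, g ∉ C → ∀ lo hi : ℤ, Rng 𝒜 L C g lo hi → lo + m ≤ hi := by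
    intro g hg hgC lo hi hr
    by_contra hlt
    rcases Nat.eq_zero_or_pos m with hm0 | hm0
    · refine hgC (hmem g fun k => ?_)
      by_contra hk
      have := hr k hk
      omega
    · refine Nat.find_min hex (m := (hi - lo).toNat) (by omega) ⟨g, hg, hgC, lo, fun k hk => ?_⟩
      have := hr k hk
      omega
  change Rng 𝒜 L C f a (a + m) at hfr
  set b : ℤ := a + m with hb
  set fb := comp 𝒜 L b f with hfb
  have hm : m ≠ 0 := by
    intro h0
    apply hfC
    refine hmem f fun k => ?_
    by_contra hk
    have hkb : k = b := by have := hfr k hk; omega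
    subst hkb
    have hfbp : fb ∈ p := by
      have hdiff : f - fb ∈ C := hmem _ fun k => by
        rw [map_sub, comp_comp_self]
        split_ifs with h
        · subst h; simp
        · rw [sub_zero]
          by_contra hk'
          exact h (by have := hfr k hk'; omega)
      simpa using p.sub_mem hf (core_le 𝒜 L p hdiff)
    exact hk ((mem_core 𝒜 L).2 fun l => by
      rw [comp_comp_self]; split_ifs
      · exact hfbp
      · exact zero_mem _)
  have hfbC : fb ∉ C := fun h => by
    have : Rng 𝒜 L C f a (b - 1) := fun k hk => by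
      have := hfr k hk
      have : k ≠ b := fun hkb => hk (by rw [hkb]; exact h)
      omega
    have := hmin f hf hfC _ _ this
    omega
  have key : ∀ n : ℕ, ∀ g ∈ p, ∀ lo : ℤ, Rng 𝒜 L C g lo (lo + n) →
      ∃ (e : ℤ) (h u : R), gmap 𝒜 L h = AddMonoidAlgebra.single e h ∧ h ∉ C ∧ h * g - u * f ∈ C ∧
        Rng 𝒜 L C u (e + lo - a) (e + (lo + n) - b) := by
    intro n
    induction n using Nat.strong_induction_on with
    | _ n ih =>
      intro g hg lo hr
      by_cases hgC : g ∈ C
      · refine ⟨0, 1, 0, by rw [map_one, AddMonoidAlgebra.one_def], ?_, by simpa using hgC,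
          fun k hk => absurd (by simp) hk⟩
        exact fun h => hCprime.ne_top ((Ideal.eq_top_iff_one _).2 h)
      · have hnm : m ≤ n := by have := hmin g hg hgC _ _ hr; omega
        set c : ℤ := lo + n with hc
        set gc := comp 𝒜 L c g with hgc
        have hr' : Rng 𝒜 L C (fb * g - gc * f) (lo + b) (lo + b + (n - 1 : ℕ)) := by
          intro k hk
          rw [map_sub, comp_mul_left 𝒜 L (gmap_comp 𝒜 L b f),
            comp_mul_left 𝒜 L (gmap_comp 𝒜 L c g)] at hk
          have hkne : k ≠ b + c := by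
            rintro rfl
            apply hk
            rw [show b + c - b = c by ring, show b + c - c = b by ring, mul_comm]
            simp
          by_cases h1 : comp 𝒜 L (k - b) g ∈ C
          · by_cases h2 : comp 𝒜 L (k - c) f ∈ C
            · exact absurd (sub_mem (C.mul_mem_left _ h1) (C.mul_mem_left _ h2)) hk
            · have := hfr _ h2; omega
          · have := hr _ h1; omega
        obtain ⟨e, h, u, he, hhC, huf, hur⟩ := ih (n - 1) (by omega) _
          (p.sub_mem (p.mul_mem_left _ hg) (p.mul_mem_left _ hf)) _ hr'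
        refine ⟨e + b, h * fb, h * gc + u, ?_, ?_, ?_, ?_⟩
        · rw [map_mul, he, gmap_comp, AddMonoidAlgebra.single_mul_single]
        · exact fun h' => (hCprime.mem_or_mem h').elim hhC hfbC
        · convert huf using 1; ring
        · intro k hk
          rw [map_add, comp_mul_left 𝒜 L he] at hk
          by_cases h1 : comp 𝒜 L k u ∈ C
          · have h2 : comp 𝒜 L (k - e) gc ∉ C := fun h2 => hk (add_mem (C.mul_mem_left _ h2) h1)
            have : k - e = c := by
              by_contra hne'
              apply h2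
              rw [hgc, comp_comp_self, if_neg (fun h => hne' h.symm)]
              exact zero_mem _
            omega
          · have := hur _ h1; omega
  have hfq : f ∈ q := by
    by_contra hfq
    have hex' : ∃ n : ℕ, ∃ g ∈ q, g ∉ C ∧ ∃ lo : ℤ, Rng 𝒜 L C g lo (lo + n) := by
      obtain ⟨lo, hi, h⟩ := exists_range 𝒜 L x0
      refine ⟨(hi - lo).toNat, x0, hx0, hx0C, lo, fun k hk => ?_⟩
      have := h k fun h0 => hk (by rw [h0]; exact zero_mem _)
      omega
    obtain ⟨g, hg, hgC, lo, hr⟩ := Nat.find_spec hex'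
    obtain ⟨e, h, u, he, hhC, huf, hur⟩ := key _ g (hqp hg) lo hr
    have hufq : u * f ∈ q := by
      simpa using q.sub_mem (q.mul_mem_left h hg) (hCq huf)
    have huq : u ∈ q := ((‹q.IsPrime›).mem_or_mem hufq).resolve_right hfq
    have huC : u ∉ C := fun hu => by
      have : h * g ∈ C := by simpa using C.add_mem huf (C.mul_mem_right f hu)
      exact (hCprime.mem_or_mem this).elim hhC hgC
    have hn := hmin g (hqp hg) hgC _ _ hr
    exact Nat.find_min hex' (m := Nat.find hex' - m) (by omega)
      ⟨u, huq, huC, e + lo - a, fun k hk => by have := hur k hk; omega⟩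
  refine le_antisymm hqp fun g hg => ?_
  obtain ⟨lo, hi, hgr⟩ := exists_range 𝒜 L g
  have hr : Rng 𝒜 L C g lo (lo + (hi - lo).toNat) := fun k hk => by
    have := hgr k fun h0 => hk (by rw [h0]; exact zero_mem _)
    omega
  obtain ⟨e, h, u, he, hhC, huf, -⟩ := key _ g hg lo hr
  have hhg : h * g ∈ q := by simpa using q.add_mem (hCq huf) (q.mul_mem_left u hfq)
  refine ((‹q.IsPrime›).mem_or_mem hhg).resolve_left fun hh => hhC (hqC h ?_)
  rw [mem_core]
  intro k
  rw [comp_def, he, AddMonoidAlgebra.coeff_single, Finsupp.single_apply]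
  split_ifs
  · exact hh
  · exact zero_mem _

/-- height drops by at most one when passing to the core -/
theorem height_le_core_add_one [IsNoetherianRing R] (p : Ideal R) [p.IsPrime] :
    p.height ≤ (core 𝒜 L p).height + 1 := by
  obtain ⟨n, hn⟩ := ENat.ne_top_iff_exists.mp (Ideal.height_ne_top_of_isPrime (I := p))
  induction n using Nat.strong_induction_on generalizing p with
  | _ n ih =>
    obtain ⟨h, hh⟩ := ENat.ne_top_iff_exists.mp (Ideal.height_ne_top_of_isPrime (I := core 𝒜 L p))
    rw [← hh, ← Nat.cast_one (R := ℕ∞), ← Nat.cast_add, Ideal.height_le_iff]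
    intro q hq hlt
    rw [Nat.cast_add, Nat.cast_one, ENat.lt_add_one_iff (ENat.natCast_ne_top h), hh]
    obtain ⟨nq, hnq⟩ := ENat.ne_top_iff_exists.mp (Ideal.height_ne_top_of_isPrime (I := q))
    have hlt' : nq < n := by
      have := Ideal.height_add_one_le_of_lt_of_isPrime hlt
      rw [← hn, ← hnq] at this
      exact Nat.lt_of_succ_le (by exact_mod_cast this)
    by_cases hqe : core 𝒜 L q = q
    · calc q.height = (core 𝒜 L q).height := by rw [hqe]
        _ ≤ _ := Ideal.height_mono (core_mono 𝒜 L hlt.le)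
    rcases (core_mono 𝒜 L hlt.le).lt_or_eq with hc | hc
    · exact (ih nq hlt' q hnq).trans (Ideal.height_add_one_le_of_lt_of_isPrime hc)
    · exact absurd (eq_of_core_eq 𝒜 L hlt.le hc.ge hqe) hlt.ne

end Groth.Agent.GrRing54

namespace Groth.Agent.GrRing54

theorem height_add_height_map_le {R : Type u} [CommRing R] [IsNoetherianRing R] (C p : Ideal R)
    [C.IsPrime] [p.IsPrime] (h : C ≤ p) :
    C.height + (p.map (Ideal.Quotient.mk C)).height ≤ p.height := by
  have hs : Function.Surjective (Ideal.Quotient.mk C) := Ideal.Quotient.mk_surjective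
  have key : ∀ (n : ℕ) (Q : Ideal (R ⧸ C)) [Q.IsPrime], (n : ℕ∞) ≤ Q.height →
      C.height + n ≤ (Q.comap (Ideal.Quotient.mk C)).height := by
    intro n
    induction n with
    | zero =>
      intro Q _ _
      rw [Nat.cast_zero, add_zero]
      exact Ideal.height_mono fun x hx => by
        simp [Ideal.mem_comap, Ideal.Quotient.eq_zero_iff_mem.2 hx]
    | succ n ih =>
      intro Q _ hQ
      have : ¬ Q.height ≤ (n : ℕ∞) := fun h' => by
        have := hQ.trans h'
        norm_cast at this
        omega
      rw [Ideal.height_le_iff] at this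
      push Not at this
      obtain ⟨Q', hQ', hlt, hle⟩ := this
      have := ih Q' hle
      have hlt' : Q'.comap (Ideal.Quotient.mk C) < Q.comap (Ideal.Quotient.mk C) :=
        (Ideal.comap_mono hlt.le).lt_of_ne fun h => hlt.ne (Ideal.comap_injective_of_surjective _ hs h)
      calc C.height + ((n + 1 : ℕ) : ℕ∞) = C.height + n + 1 := by push_cast; rw [add_assoc]
        _ ≤ (Q'.comap (Ideal.Quotient.mk C)).height + 1 := by gcongr
        _ ≤ _ := Ideal.height_add_one_le_of_lt_of_isPrime hlt'
  have hker : RingHom.ker (Ideal.Quotient.mk C) ≤ p := by rwa [Ideal.mk_ker]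
  have : (p.map (Ideal.Quotient.mk C)).IsPrime := Ideal.map_isPrime_of_surjective hs hker
  obtain ⟨n, hn⟩ := ENat.ne_top_iff_exists.mp
    (Ideal.height_ne_top_of_isPrime (I := p.map (Ideal.Quotient.mk C)))
  have h1 := key n (p.map (Ideal.Quotient.mk C)) (le_of_eq hn)
  rw [Ideal.comap_map_of_surjective _ hs, ← RingHom.ker_eq_comap_bot, sup_eq_left.2 hker] at h1
  rwa [hn] at h1

theorem comp_mem_core_of_comp {ι : Type v} [AddCommGroup ι] [DecidableEq ι] {R : Type u}
    [CommRing R] (𝒜 : ι → AddSubgroup R) [GradedRing 𝒜] (L L' : ι →+ ℤ) {p : Ideal R}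
    (h : ∀ x ∈ p, ∀ k, comp 𝒜 L' k x ∈ p) :
    ∀ x ∈ core 𝒜 L p, ∀ k, comp 𝒜 L' k x ∈ core 𝒜 L p := by
  intro x hx k
  rw [mem_core]
  intro l
  rw [comp_comm]
  exact h _ ((mem_core 𝒜 L).1 hx l) k

theorem height_eq_core_add {ι : Type v} [AddCommGroup ι] [DecidableEq ι] [Module.Free ℤ ι]
    [Module.Finite ℤ ι] {R : Type u} [CommRing R] [IsNoetherianRing R] (𝒜 : ι → AddSubgroup R)
    [GradedRing 𝒜] (p : Ideal R) [hp : p.IsPrime] :
    p.height = (p.homogeneousCore 𝒜).toIdeal.height +
      (p.map (Ideal.Quotient.mk (p.homogeneousCore 𝒜).toIdeal)).height := by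
  classical
  set C := (p.homogeneousCore 𝒜).toIdeal with hC
  have hCprime : C.IsPrime := isPrime_homogeneousCore p
  refine le_antisymm ?_ (height_add_height_map_le C p (Ideal.toIdeal_homogeneousCore_le 𝒜 p))
  set r := Module.finrank ℤ ι
  let b := Module.finBasis ℤ ι
  let L : ℕ → (ι →+ ℤ) := fun t => if h : t < r then (b.coord ⟨t, h⟩).toAddMonoidHom else 0
  obtain ⟨P, hP0, hPs⟩ : ∃ P : ℕ → Ideal R, P 0 = p ∧ ∀ t, P (t + 1) = core 𝒜 (L t) (P t) :=
    ⟨fun t => Nat.rec (motive := fun _ => Ideal R) p (fun s I => core 𝒜 (L s) I) t, rfl,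
      fun _ => rfl⟩
  have hPprime : ∀ t, (P t).IsPrime := fun t => by
    induction t with
    | zero => rw [hP0]; exact hp
    | succ t ih => rw [hPs]; exact core_isPrime 𝒜 (L t) _
  have hPanti : ∀ t, P (t + 1) ≤ P t := fun t => (hPs t).le.trans (core_le 𝒜 (L t) _)
  have hPp : ∀ t, P t ≤ p := fun t => by
    induction t with
    | zero => exact hP0.le
    | succ t ih => exact (hPanti t).trans ih
  have hinv : ∀ t, ∀ s < t, ∀ x ∈ P t, ∀ k, comp 𝒜 (L s) k x ∈ P t := by
    intro t
    induction t with
    | zero => intro s hs; omega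
    | succ t ih =>
      intro s hs
      rw [hPs]
      rcases Nat.lt_succ_iff_lt_or_eq.1 hs with hs | rfl
      · exact comp_mem_core_of_comp 𝒜 (L t) (L s) (ih s hs)
      · exact fun x hx k => comp_mem_core 𝒜 (L s) hx k
  have hCP : ∀ t, C ≤ P t := fun t => by
    induction t with
    | zero => exact (Ideal.toIdeal_homogeneousCore_le 𝒜 p).trans hP0.ge
    | succ t ih =>
      intro x hx
      rw [hPs]
      refine (mem_core 𝒜 (L t)).2 fun k => ih ?_
      rw [← DirectSum.sum_support_decompose 𝒜 x, map_sum]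
      refine sum_mem fun i _ => ?_
      rw [comp_of_mem 𝒜 (L t) (SetLike.coe_mem _)]
      split_ifs
      · exact (p.homogeneousCore 𝒜).isHomogeneous i hx
      · exact zero_mem _
  have hr : P r ≤ C := by
    intro x hx
    rw [← DirectSum.sum_support_decompose 𝒜 x]
    refine sum_mem fun i hi => Ideal.mem_homogeneousCore_of_homogeneous_of_mem
      ⟨i, SetLike.coe_mem _⟩ (hPp r ?_)
    let y : ℕ → R := fun t => ∑ j ∈ (DirectSum.decompose 𝒜 x).support with
      ∀ s < t, L s j = L s i, (DirectSum.decompose 𝒜 x j : R)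
    have hy : ∀ t, t ≤ r → y t ∈ P r := by
      intro t ht
      induction t with
      | zero => simpa [y, DirectSum.sum_support_decompose] using hx
      | succ t ih =>
        have : y (t + 1) = comp 𝒜 (L t) (L t i) (y t) := by
          simp only [y, map_sum]
          rw [Finset.sum_filter, Finset.sum_filter]
          refine Finset.sum_congr rfl fun j _ => ?_
          rw [comp_of_mem 𝒜 (L t) (SetLike.coe_mem _), ← ite_and]
          congr 1
          refine propext ⟨fun h => ⟨fun s hs => h s (by omega), h t (by omega)⟩, fun h s hs => ?_⟩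
          rcases Nat.lt_succ_iff_lt_or_eq.1 hs with hs | rfl
          exacts [h.1 s hs, h.2]
        rw [this]
        exact hinv r t (by omega) _ (ih (by omega)) _
    have := hy r le_rfl
    have heq : y r = (DirectSum.decompose 𝒜 x i : R) := by
      simp only [y]
      rw [Finset.sum_eq_single_of_mem i (Finset.mem_filter.2 ⟨hi, fun _ _ => rfl⟩)]
      intro j hj hne
      refine absurd ?_ hne
      refine b.repr.injective (Finsupp.ext fun s => ?_)
      have hjs := (Finset.mem_filter.1 hj).2 s.1 s.2
      rw [show L s.1 = (b.coord s).toAddMonoidHom from dif_pos s.2] at hjs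
      exact hjs
    rwa [heq] at this
  have hs : Function.Surjective (Ideal.Quotient.mk C) := Ideal.Quotient.mk_surjective
  have key : ∀ s t, t + s = r →
      (P t).height ≤ C.height + ((P t).map (Ideal.Quotient.mk C)).height := by
    intro s
    induction s with
    | zero =>
      intro t ht
      rw [show t = r by omega, le_antisymm hr (hCP r)]
      exact le_self_add
    | succ s ih =>
      intro t ht
      have h := ih (t + 1) (by omega)
      rcases eq_or_ne (P (t + 1)) (P t) with he | he
      · exact he ▸ h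
      · have := hPprime t
        have := hPprime (t + 1)
        have hk : ∀ u, RingHom.ker (Ideal.Quotient.mk C) ≤ P u := fun u => by
          rw [Ideal.mk_ker]; exact hCP u
        have : ((P t).map (Ideal.Quotient.mk C)).IsPrime := Ideal.map_isPrime_of_surjective (H := hPprime t) hs (hk t)
        have : ((P (t + 1)).map (Ideal.Quotient.mk C)).IsPrime := Ideal.map_isPrime_of_surjective (H := hPprime (t + 1)) hs (hk (t + 1))
        have hlt : (P (t + 1)).map (Ideal.Quotient.mk C) < (P t).map (Ideal.Quotient.mk C) := by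
          refine (Ideal.map_mono (hPanti t)).lt_of_ne fun h' => he ?_
          have := congrArg (Ideal.comap (Ideal.Quotient.mk C)) h'
          rwa [Ideal.comap_map_of_surjective _ hs, Ideal.comap_map_of_surjective _ hs,
            ← RingHom.ker_eq_comap_bot, sup_eq_left.2 (hk (t + 1)), sup_eq_left.2 (hk t)] at this
        calc (P t).height ≤ (P (t + 1)).height + 1 := by rw [hPs]; exact height_le_core_add_one 𝒜 (L t) (P t)
          _ ≤ C.height + ((P (t + 1)).map (Ideal.Quotient.mk C)).height + 1 := by gcongr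
          _ ≤ _ := by
            rw [add_assoc]
            gcongr
            exact Ideal.height_add_one_le_of_lt_of_isPrime hlt
  simpa only [hP0] using key r 0 (zero_add r)

end Groth.Agent.GrRing54
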