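import Mathlib
import Groth.Prelude.Def_GrLC

/-!
Rings graded by the integers: the positive part and finiteness.
-/

set_option autoImplicit false
universe u

open DirectSum

namespace Groth.Agent.GrRing54

variable {R A : Type u} [CommRing R] [CommRing A] [Algebra R A]
  (𝒜 : ℤ → Submodule R A) [GradedAlgebra 𝒜] {p : ℕ} (f : Fin p → A) (deg : Fin p → ℤ)

theorem exists_sum_homog (hf : ∀ i, f i ∈ 𝒜 (deg i)) {M : ℤ} {a : A} (ha : a ∈ 𝒜 M)
    (h : a ∈ Ideal.span (Set.range f)) :
    ∃ c : Fin p → A, (∀ i, c i ∈ 𝒜 (M - deg i)) ∧ a = ∑ i, c i * f i := by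
  classical
  obtain ⟨c, hc⟩ := Ideal.mem_span_range_iff_exists_fun.1 h
  refine ⟨fun i => (decompose 𝒜 (c i) (M - deg i) : A), fun i => SetLike.coe_mem _, ?_⟩
  have := congrArg (GradedRing.proj 𝒜 M) hc
  rw [map_sum, GradedRing.proj_apply 𝒜 M a, decompose_of_mem_same 𝒜 ha] at this
  rw [← this]
  refine Finset.sum_congr rfl fun i _ => ?_
  rw [GradedRing.proj_apply]
  have h2 := coe_decompose_mul_add_of_right_mem 𝒜 (a := c i) (b := f i) (i := M - deg i) (hf i)
  rwa [sub_add_cancel] at h2

variable {𝒜 f deg}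

theorem piece_mem_mul (hdeg : ∀ i, 0 < deg i) (hf : ∀ i, f i ∈ 𝒜 (deg i))
    (hgen : Ideal.span {a : A | ∃ n : ℤ, 0 < n ∧ a ∈ 𝒜 n} = Ideal.span (Set.range f))
    {d : ℤ} (hdvd : ∀ i, deg i ∣ d) (hd : 0 < d) {N : ℤ} (hN : d * p - ∑ i, deg i < N) :
    𝒜 N = 𝒜 d * 𝒜 (N - d) := by
  classical
  refine le_antisymm ?_ (Submodule.mul_le.2 fun a ha b hb => by
    have := SetLike.mul_mem_graded ha hb
    rwa [add_sub_cancel] at this)
  have key : ∀ (t : ℕ) (e : Fin p → ℕ) (a : A),
      (N - ∑ i, (e i : ℤ) * deg i).toNat ≤ t → a ∈ 𝒜 (N - ∑ i, (e i : ℤ) * deg i) →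
        (∏ i, f i ^ e i) * a ∈ 𝒜 d * 𝒜 (N - d) := by
    intro t
    induction t using Nat.strong_induction_on with
    | _ t ih =>
      intro e a ht ha
      by_cases hbig : ∃ i, d ≤ (e i : ℤ) * deg i
      · obtain ⟨i, hi⟩ := hbig
        obtain ⟨q, hq⟩ := hdvd i
        have hq0 : 0 < q := by
          by_contra h
          have := hdeg i
          nlinarith
        obtain ⟨q', rfl⟩ := Int.eq_ofNat_of_zero_le hq0.le
        have hqe : q' ≤ e i := by
          have := hdeg i
          have h' : (q' : ℤ) * deg i ≤ (e i : ℤ) * deg i := by linarith [hi, hq, mul_comm (deg i) (q' : ℤ)]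
          exact_mod_cast le_of_mul_le_mul_right h' this
        have hfd : f i ^ q' ∈ 𝒜 d := by
          rw [hq, mul_comm]
          simpa [nsmul_eq_mul] using SetLike.pow_mem_graded q' (hf i)
        let e' := Function.update e i (e i - q')
        have hsum : ∑ j, (e' j : ℤ) * deg j = (∑ j, (e j : ℤ) * deg j) - d := by
          rw [← Finset.add_sum_erase _ _ (Finset.mem_univ i),
            ← Finset.add_sum_erase _ (fun j => (e j : ℤ) * deg j) (Finset.mem_univ i),
            Finset.sum_congr rfl (g := fun j => (e j : ℤ) * deg j) fun j hj => by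
              rw [show e' j = e j from Function.update_of_ne (Finset.ne_of_mem_erase hj) _ _]]
          rw [show e' i = e i - q' from Function.update_self _ _ _, Nat.cast_sub hqe, hq]
          ring
        have hprod : ∏ j, f j ^ e j = f i ^ q' * ∏ j, f j ^ e' j := by
          rw [← Finset.mul_prod_erase _ _ (Finset.mem_univ i),
            ← Finset.mul_prod_erase _ (fun j => f j ^ e' j) (Finset.mem_univ i), ← mul_assoc, ← pow_add,
            show e' i = e i - q' from Function.update_self _ _ _, Nat.add_sub_cancel' hqe]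
          congr 1
          exact Finset.prod_congr rfl fun j hj => by
            rw [show e' j = e j from Function.update_of_ne (Finset.ne_of_mem_erase hj) _ _]
        rw [hprod, mul_assoc]
        refine Submodule.mul_mem_mul hfd ?_
        have hp : (∏ j, f j ^ e' j) ∈ 𝒜 (∑ j, (e' j : ℤ) * deg j) := by
          simpa [nsmul_eq_mul] using
            SetLike.prod_pow_mem_graded 𝒜 deg f e' (F := Finset.univ) (fun j _ => hf j)
        have := SetLike.mul_mem_graded hp ha
        rwa [hsum, show (∑ j, (e j : ℤ) * deg j) - d + (N - ∑ j, (e j : ℤ) * deg j) = N - d by ring] at this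
      · push Not at hbig
        have hle : ∀ i, (e i : ℤ) * deg i ≤ d - deg i := fun i => by
          obtain ⟨q, hq⟩ := hdvd i
          have hlt : (e i : ℤ) < q := lt_of_mul_lt_mul_right (by linarith [hbig i, hq, mul_comm (deg i) q]) (hdeg i).le
          have := mul_le_mul_of_nonneg_right (show (e i : ℤ) ≤ q - 1 by omega) (hdeg i).le
          linarith [hq, mul_comm (deg i) q]
        have hsum : ∑ i, (e i : ℤ) * deg i ≤ d * p - ∑ i, deg i := by
          calc _ ≤ ∑ i, (d - deg i) := Finset.sum_le_sum fun i _ => hle i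
            _ = _ := by rw [Finset.sum_sub_distrib]; simp [mul_comm]
        have hpos : 0 < N - ∑ i, (e i : ℤ) * deg i := by linarith
        obtain ⟨c, hc, rfl⟩ := exists_sum_homog 𝒜 f deg hf ha (by
          rw [← hgen]; exact Ideal.subset_span ⟨_, hpos, ha⟩)
        rw [Finset.mul_sum]
        refine sum_mem fun i _ => ?_
        have hs : N - ∑ j, ((Function.update e i (e i + 1)) j : ℤ) * deg j =
            N - ∑ j, (e j : ℤ) * deg j - deg i := by
          rw [← Finset.add_sum_erase _ _ (Finset.mem_univ i),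
            ← Finset.add_sum_erase _ (fun j => (e j : ℤ) * deg j) (Finset.mem_univ i),
            Finset.sum_congr rfl (g := fun j => (e j : ℤ) * deg j) fun j hj => by
              rw [Function.update_of_ne (Finset.ne_of_mem_erase hj)], Function.update_self]
          push_cast
          ring
        have hprod : (∏ j, f j ^ e j) * (c i * f i) = (∏ j, f j ^ (Function.update e i (e i + 1)) j) * c i := by
          have : ∀ j, f j ^ (Function.update e i (e i + 1)) j = f j ^ e j * (if j = i then f j else 1) := by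
            intro j
            rcases eq_or_ne j i with rfl | hj
            · rw [Function.update_self, if_pos rfl, pow_succ]
            · rw [Function.update_of_ne hj, if_neg hj, mul_one]
          simp only [this, Finset.prod_mul_distrib, Finset.prod_ite_eq', Finset.mem_univ, if_true]
          ring
        rw [hprod]
        refine ih (t - 1) ?_ _ _ ?_ ?_
        · omega
        · rw [hs]; have := hdeg i; omega
        · rw [hs]; exact hc i
  intro x hx
  simpa using key N.toNat (fun _ => 0) x (by simp) (by simpa using hx)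

theorem piece_mem_pow (hdeg : ∀ i, 0 < deg i) (hf : ∀ i, f i ∈ 𝒜 (deg i))
    (hgen : Ideal.span {a : A | ∃ n : ℤ, 0 < n ∧ a ∈ 𝒜 n} = Ideal.span (Set.range f))
    {d : ℤ} (hdvd : ∀ i, deg i ∣ d) (hd : 0 < d) (k : ℕ) {n : ℤ}
    (hn : d * p - ∑ i, deg i + k * d < n) {x : A} (hx : x ∈ 𝒜 n) :
    x ∈ Ideal.span (Set.range f) ^ k := by
  induction k generalizing n x with
  | zero => simp
  | succ k ih =>
    have hk : (0 : ℤ) ≤ (k + 1 : ℕ) * d := by positivity
    rw [piece_mem_mul hdeg hf hgen hdvd hd (by linarith)] at hx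
    rw [pow_succ']
    induction hx using Submodule.mul_induction_on' with
    | mem_mul_mem a ha b hb =>
      refine Ideal.mul_mem_mul (hgen ▸ Ideal.subset_span ⟨d, hd, ha⟩) (ih ?_ hb)
      push_cast at hn
      linarith
    | add a _ b _ ha hb => exact add_mem ha hb

theorem tfae_gam (hdeg : ∀ i, 0 < deg i) (hf : ∀ i, f i ∈ 𝒜 (deg i))
    (hgen : Ideal.span {a : A | ∃ n : ℤ, 0 < n ∧ a ∈ 𝒜 n} = Ideal.span (Set.range f))
    {d : ℤ} (hd : 0 < d) (hdvd : ∀ i, deg i ∣ d)
    {M : Type u} [AddCommGroup M] [Module A M] (x : M) :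
    [x ∈ GrLC.gam (Ideal.span (Set.range f)) M,
     ∃ n₀ : ℕ, ∀ n : ℕ, n₀ ≤ n → ∀ r ∈ (𝒜 d) ^ n, r • x = 0,
     ∃ s : ℤ, ∀ n : ℤ, s ≤ n → ∀ r ∈ 𝒜 n, r • x = 0].TFAE := by
  tfae_have 1 → 3 := by
    rintro ⟨k, hk⟩
    exact ⟨d * p - ∑ i, deg i + k * d + 1, fun n hn r hr =>
      hk r (piece_mem_pow hdeg hf hgen hdvd hd k (by omega) hr)⟩
  tfae_have 3 → 2 := by
    rintro ⟨s, hs⟩
    refine ⟨s.toNat, fun n hn r hr => hs (n * d) ?_ r ?_⟩
    · have h1 : (s.toNat : ℤ) ≤ n := by exact_mod_cast hn
      have h2 : s ≤ (s.toNat : ℤ) := Int.self_le_toNat s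
      have h3 : (n : ℤ) * 1 ≤ n * d := mul_le_mul_of_nonneg_left (by omega) (Int.natCast_nonneg n)
      linarith
    · have hpow : ∀ m : ℕ, (𝒜 d) ^ m ≤ 𝒜 ((m : ℤ) * d) := by
        intro m
        induction m with
        | zero =>
          rw [pow_zero, Submodule.one_le, Nat.cast_zero, zero_mul]
          exact SetLike.one_mem_graded 𝒜
        | succ m ih =>
          rw [pow_succ]
          refine Submodule.mul_le.2 fun a ha b hb => ?_
          have := SetLike.mul_mem_graded (ih ha) hb
          rw [Nat.cast_succ, add_mul, one_mul]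
          exact this
      exact hpow n hr
  tfae_have 2 → 1 := by
    rintro ⟨n₀, h⟩
    let Ann : Ideal A := LinearMap.ker (LinearMap.toSpanSingleton A M x)
    have hle : Ideal.span (Set.range f) ≤ Ann.radical := by
      rw [Ideal.span_le]
      rintro _ ⟨i, rfl⟩
      obtain ⟨q, hq⟩ := hdvd i
      have hq0 : 0 ≤ q := by
        by_contra hneg
        have := hdeg i
        nlinarith
      obtain ⟨q', rfl⟩ := Int.eq_ofNat_of_zero_le hq0
      have hfd : f i ^ q' ∈ 𝒜 d := by
        rw [hq, mul_comm]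
        simpa [nsmul_eq_mul] using SetLike.pow_mem_graded q' (hf i)
      refine ⟨q' * n₀, ?_⟩
      rw [pow_mul]
      exact h n₀ le_rfl _ (Submodule.pow_mem_pow _ hfd n₀)
    obtain ⟨k, hk⟩ := Ideal.exists_pow_le_of_le_radical_of_fg hle (Submodule.fg_span (Set.finite_range f))
    exact ⟨k, fun r hr => hk hr⟩
  tfae_finish

end Groth.Agent.GrRing54
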