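import Mathlib
import Groth.Agent.GrRing54.PosPart

/-!
Noetherian rings graded by the integers.
-/

set_option autoImplicit false
universe u

open DirectSum

namespace Groth.Agent.GrRing54

variable {R A : Type u} [CommRing R] [CommRing A] [Algebra R A]
  (𝒜 : ℤ → Submodule R A) [GradedAlgebra 𝒜]

/-- finitely many homogeneous generators of the ideal generated by a set of homogeneous elements -/
theorem exists_homog_gens (h : ∀ I : Ideal A, I.IsHomogeneous 𝒜 → I.FG) (S : Set A)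
    (hS : ∀ x ∈ S, SetLike.IsHomogeneousElem 𝒜 x) :
    ∃ (p : ℕ) (f : Fin p → A), (∀ i, f i ∈ S) ∧ Ideal.span S = Ideal.span (Set.range f) := by
  obtain ⟨T, hTS, hT⟩ := (Submodule.fg_span_iff_fg_span_finset_subset S).1
    (h _ (Ideal.homogeneous_span 𝒜 S hS))
  refine ⟨T.card, fun i => (T.equivFin.symm i : A), fun i => hTS (T.equivFin.symm i).2, ?_⟩
  have : Set.range (fun i => (T.equivFin.symm i : A)) = (T : Set A) := by
    ext x
    constructor
    · rintro ⟨i, rfl⟩; exact (T.equivFin.symm i).2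
    · intro hx; exact ⟨T.equivFin ⟨x, hx⟩, by simp⟩
  rw [this]
  exact hT

theorem fg_zero_and_pieces (h : ∀ I : Ideal A, I.IsHomogeneous 𝒜 → I.FG) :
    IsNoetherianRing (𝒜 0) ∧ ∀ n, ∃ G : Finset A, (G : Set A) ⊆ (𝒜 n : Set A) ∧
      (𝒜 n : Set A) ⊆ (Submodule.span (𝒜 0) (G : Set A) : Set A) := by
  classical
  refine ⟨⟨fun J => ?_⟩, fun n => ?_⟩
  · obtain ⟨p, f, hfS, hspan⟩ := exists_homog_gens 𝒜 h ((fun x : 𝒜 0 => (x : A)) '' (J : Set (𝒜 0)))
      (by rintro _ ⟨x, -, rfl⟩; exact ⟨0, x.2⟩)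
    choose g hg hgf using hfS
    refine ⟨Finset.univ.image g, le_antisymm ?_ ?_⟩
    · rw [Submodule.span_le]; intro x hx
      obtain ⟨i, -, rfl⟩ := Finset.mem_image.1 hx
      exact hg i
    · intro x hx
      obtain ⟨c, hc, hxe⟩ := exists_sum_homog 𝒜 f (fun _ => 0) (fun i => hgf i ▸ (g i).2) x.2
        (hspan ▸ Ideal.subset_span ⟨x, hx, rfl⟩)
      have : x = ∑ i, (⟨c i, by simpa using hc i⟩ : 𝒜 0) * g i := Subtype.ext (by
        rw [AddSubmonoidClass.coe_finsetSum]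
        simpa [hgf] using hxe)
      rw [this]
      exact sum_mem fun i _ => Submodule.smul_mem _ _ (Submodule.subset_span (by simp))
  · obtain ⟨p, f, hfS, hspan⟩ := exists_homog_gens 𝒜 h (𝒜 n : Set A) (fun x hx => ⟨n, hx⟩)
    refine ⟨Finset.univ.image f, ?_, fun x hx => ?_⟩
    · intro y hy
      obtain ⟨i, -, rfl⟩ := Finset.mem_image.1 hy
      exact hfS i
    · obtain ⟨c, hc, rfl⟩ := exists_sum_homog 𝒜 f (fun _ => n) (fun i => hfS i) hx
        (hspan ▸ Ideal.subset_span hx)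
      refine sum_mem fun i _ => ?_
      change (⟨c i, by simpa using hc i⟩ : 𝒜 0) • f i ∈ _
      exact Submodule.smul_mem _ _ (Submodule.subset_span (by simp))

theorem fg_half (h : ∀ I : Ideal A, I.IsHomogeneous 𝒜 → I.FG) (ε : ℤ) (hε : ε * ε = 1) :
    (Algebra.adjoin (𝒜 0) {a : A | ∃ n : ℤ, 0 ≤ ε * n ∧ a ∈ 𝒜 n}).FG := by
  classical
  obtain ⟨p, f, hfS, hspan⟩ := exists_homog_gens 𝒜 h {a : A | ∃ n : ℤ, 0 < ε * n ∧ a ∈ 𝒜 n}
    (by rintro x ⟨n, -, hx⟩; exact ⟨n, hx⟩)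
  choose m hm hfm using hfS
  obtain ⟨-, hpieces⟩ := fg_zero_and_pieces 𝒜 h
  choose G hGsub hG using hpieces
  let D : ℕ := ∑ i, (ε * m i).toNat
  let T : Finset A := Finset.univ.image f ∪ (Finset.range (D + 1)).biUnion (fun k => G (ε * k))
  refine ⟨T, le_antisymm (Algebra.adjoin_mono fun x hx => ?_) (Algebra.adjoin_le ?_)⟩
  · rcases Finset.mem_union.1 hx with hx | hx
    · obtain ⟨i, -, rfl⟩ := Finset.mem_image.1 hx
      exact ⟨m i, (hm i).le, hfm i⟩
    · obtain ⟨k, -, hk⟩ := Finset.mem_biUnion.1 hx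
      exact ⟨ε * k, by rw [← mul_assoc, hε, one_mul]; exact Int.natCast_nonneg k, hGsub _ hk⟩
  have key : ∀ k : ℕ, ∀ a ∈ 𝒜 (ε * k), a ∈ Algebra.adjoin (𝒜 0) (T : Set A) := by
    intro k
    induction k using Nat.strong_induction_on with
    | _ k ih =>
      intro a ha
      by_cases hk : k ≤ D
      · have hle : Submodule.span (𝒜 0) ((G (ε * k) : Finset A) : Set A) ≤
            Subalgebra.toSubmodule (Algebra.adjoin (𝒜 0) (T : Set A)) :=
          Submodule.span_le.2 fun y hy => Algebra.subset_adjoin (Finset.mem_union_right _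
            (Finset.mem_biUnion.2 ⟨k, Finset.mem_range.2 (Nat.lt_succ_of_le hk), hy⟩))
        exact hle (hG _ ha)
      · obtain ⟨c, hc, rfl⟩ := exists_sum_homog 𝒜 f m hfm ha (hspan ▸ Ideal.subset_span
          ⟨ε * k, by rw [← mul_assoc, hε, one_mul]; omega, ha⟩)
        refine sum_mem fun i _ => mul_mem ?_ (Algebra.subset_adjoin (Finset.mem_union_left _ (Finset.mem_image_of_mem f (Finset.mem_univ i))))
        have h1 : (ε * m i).toNat ≤ D := Finset.single_le_sum (f := fun i => (ε * m i).toNat) (fun _ _ => Nat.zero_le _) (Finset.mem_univ i)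
        have h2 := hm i
        refine ih (k - (ε * m i).toNat) (by omega) (c i) ?_
        have : ε * ((k - (ε * m i).toNat : ℕ) : ℤ) = ε * k - m i := by
          rw [Nat.cast_sub (by omega), Int.toNat_of_nonneg h2.le, mul_sub, ← mul_assoc, hε, one_mul]
        rw [this]
        exact hc i
  rintro a ⟨n, hn, ha⟩
  obtain ⟨k, hk⟩ := Int.eq_ofNat_of_zero_le hn
  refine key k a ?_
  rwa [← hk, ← mul_assoc, hε, one_mul]

theorem tfae_noetherian :
    [IsNoetherianRing A,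
     ∀ I : Ideal A, I.IsHomogeneous 𝒜 → I.FG,
     IsNoetherianRing (𝒜 0) ∧ (Algebra.adjoin (𝒜 0) {a : A | ∃ n : ℤ, 0 ≤ n ∧ a ∈ 𝒜 n}).FG ∧
       (Algebra.adjoin (𝒜 0) {a : A | ∃ n : ℤ, n ≤ 0 ∧ a ∈ 𝒜 n}).FG,
     IsNoetherianRing (𝒜 0) ∧ Algebra.FiniteType (𝒜 0) A].TFAE := by
  tfae_have 1 → 2 := fun h I _ => IsNoetherian.noetherian I
  tfae_have 2 → 3 := by
    intro h
    refine ⟨(fg_zero_and_pieces 𝒜 h).1, ?_, ?_⟩
    · have := fg_half 𝒜 h 1 (one_mul 1)
      simpa only [one_mul] using this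
    · have := fg_half 𝒜 h (-1) (by norm_num)
      simpa only [neg_one_mul, neg_nonneg] using this
  tfae_have 3 → 4 := by
    rintro ⟨h0, ⟨T1, hT1⟩, ⟨T2, hT2⟩⟩
    classical
    refine ⟨h0, ⟨⟨T1 ∪ T2, eq_top_iff.2 fun x _ => ?_⟩⟩⟩
    rw [Finset.coe_union, Algebra.adjoin_union, hT1, hT2, ← DirectSum.sum_support_decompose 𝒜 x]
    refine sum_mem fun i _ => ?_
    rcases le_total 0 i with hi | hi
    · exact le_sup_left (α := Subalgebra (𝒜 0) A) (Algebra.subset_adjoin ⟨i, hi, SetLike.coe_mem _⟩)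
    · exact le_sup_right (α := Subalgebra (𝒜 0) A) (Algebra.subset_adjoin ⟨i, hi, SetLike.coe_mem _⟩)
  tfae_have 4 → 1 := by
    rintro ⟨h0, hft⟩
    exact Algebra.FiniteType.isNoetherianRing (𝒜 0) A
  tfae_finish

end Groth.Agent.GrRing54
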